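import Cfsg.Agent.Lib.Perm.Sharp
import Cfsg.Agent.Lib.Perm.NormalMulti
import Cfsg.Prelude.Def_LieExceptional

/-!
Doubly transitive groups with an involution whose centraliser has constant fixity: all elements
exchanging two points are involutions, so all involutions share the hypothesis.
-/

set_option autoImplicit false
set_option linter.unusedSectionVars false

open MulAction

namespace CfsgLib.Perm.ConstFix

variable {G Ω : Type*} [Group G] [MulAction G Ω]

/-- The number of fixed points. -/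
noncomputable def fx (Ω : Type*) {G : Type*} [Group G] [MulAction G Ω] (g : G) : ℕ :=
  Nat.card {x : Ω // g • x = x}

/-- The two-point stabiliser. -/
abbrev pst (G : Type*) {Ω : Type*} [Group G] [MulAction G Ω] (a b : Ω) : Subgroup G :=
  stabilizer G a ⊓ stabilizer G b

/-- There is a regular normal subgroup. -/
def RN (G Ω : Type*) [Group G] [MulAction G Ω] : Prop :=
  ∃ R : Subgroup G, R.Normal ∧ (∀ x y : Ω, ∃ r ∈ R, r • x = y) ∧
    ∀ x : Ω, ∀ r ∈ R, r • x = x → r = 1

/-- The derived hypothesis: it holds for every involution. -/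
structure Hyp (G Ω : Type*) [Group G] [MulAction G Ω] (i : ℕ) : Prop where
  faith : ∀ g : G, (∀ x : Ω, g • x = x) → g = 1
  two : ∀ a b c d : Ω, a ≠ b → c ≠ d → ∃ g : G, g • a = c ∧ g • b = d
  const : ∀ w : G, w ≠ 1 → w * w = 1 → ∀ g : G, g ≠ 1 → g * w = w * g → fx Ω g = i
  swap : ∀ a b : Ω, a ≠ b → ∀ s : G, s • a = b → s • b = a → s * s = 1
  cent : ∀ w : G, w ≠ 1 → w * w = 1 →
    Nat.card (Subgroup.centralizer ({w} : Set G)) + i = Nat.card Ω
  exists_invol : ∃ w : G, w ≠ 1 ∧ w * w = 1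

section

variable [Finite G] [Finite Ω]

theorem fx_add_card (g : G) : fx Ω g + Nat.card {x : Ω // g • x ≠ x} = Nat.card Ω := by
  classical
  rw [fx, ← Nat.card_sum]
  exact Nat.card_congr (Equiv.sumCompl _)

theorem fx_conj (h g : G) : fx Ω (h * g * h⁻¹) = fx Ω g := by
  refine (Nat.card_congr ?_).symm
  exact
    { toFun := fun x => ⟨h • x.1, by rw [mul_smul, mul_smul, inv_smul_smul, x.2]⟩
      invFun := fun x => ⟨h⁻¹ • x.1, by
        have h2 := congrArg (h⁻¹ • ·) x.2
        simpa [mul_smul] using h2⟩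
      left_inv := fun x => Subtype.ext (inv_smul_smul h x.1)
      right_inv := fun x => Subtype.ext (smul_inv_smul h x.1) }

theorem fx_one : fx Ω (1 : G) = Nat.card Ω :=
  Nat.card_congr (Equiv.subtypeUnivEquiv fun x => one_smul G x)

theorem moved_nonempty [FaithfulSMul G Ω] {g : G} (hg : g ≠ 1) : ∃ x : Ω, g • x ≠ x := by
  by_contra! h
  exact hg (eq_of_smul_eq_smul (α := Ω) fun x => by rw [h x, one_smul])

/-- With constant fixity on the centraliser its order divides the number of moved points. -/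
theorem centralizer_dvd {i : ℕ} {t : G}
    (hfix : ∀ g : G, g * t = t * g → g ≠ 1 → fx Ω g = i) (hti : fx Ω t = i) :
    Nat.card (Subgroup.centralizer ({t} : Set G)) ∣ Nat.card {x : Ω // t • x ≠ x} := by
  classical
  haveI := Fintype.ofFinite G
  haveI := Fintype.ofFinite Ω
  set C := Subgroup.centralizer ({t} : Set G)
  have hsum := MulAction.sum_card_fixedBy_eq_card_orbits_mul_card_group C Ω
  have h1 : ∀ g : C, Fintype.card (fixedBy Ω g) = if g = 1 then Nat.card Ω else i := by
    intro g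
    have he : Fintype.card (fixedBy Ω g) = fx Ω (g : G) := by
      rw [fx, Nat.card_eq_fintype_card]
      exact Fintype.card_congr (Equiv.subtypeEquivRight fun x => Iff.rfl)
    rw [he]
    split_ifs with hg
    · rw [hg, OneMemClass.coe_one, fx_one]
    · exact hfix g (Subgroup.mem_centralizer_singleton_iff.1 g.2) fun e => hg (Subtype.ext e)
  rw [Finset.sum_congr rfl fun g _ => h1 g, ← Finset.add_sum_erase _ _ (Finset.mem_univ (1 : C)),
    if_pos rfl, Finset.sum_congr rfl fun g hg => if_neg (Finset.ne_of_mem_erase hg),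
    Finset.sum_const, Finset.card_erase_of_mem (Finset.mem_univ _), Finset.card_univ, smul_eq_mul,
    ← fx_add_card (Ω := Ω) t, hti, ← Nat.card_eq_fintype_card (α := C),
    ← Nat.card_eq_fintype_card (α := orbitRel.Quotient C Ω)] at hsum
  obtain ⟨c, hc⟩ : ∃ c, Nat.card C = c + 1 := ⟨Nat.card C - 1, by
    have := Nat.card_pos (α := C); omega⟩
  rw [hc] at hsum ⊢
  rw [Nat.add_sub_cancel] at hsum
  have h2 : Nat.card {x : Ω // t • x ≠ x} + (c + 1) * i =
      (c + 1) * Nat.card (orbitRel.Quotient C Ω) := by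
    rw [mul_comm (c + 1) (Nat.card (orbitRel.Quotient C Ω)), ← hsum]; ring
  exact (Nat.dvd_add_left (Dvd.intro i rfl)).1 (h2 ▸ Dvd.intro _ rfl)

end

theorem exists_swap (two : ∀ a b c d : Ω, a ≠ b → c ≠ d → ∃ g : G, g • a = c ∧ g • b = d)
    {a b : Ω} (hab : a ≠ b) : ∃ s : G, s • a = b ∧ s • b = a :=
  two a b b a hab hab.symm

/-- The elements exchanging two points form a coset of their stabiliser. -/
def swapEquiv {a b : Ω} {s₀ : G} (h1 : s₀ • a = b) (h2 : s₀ • b = a) :
    pst G a b ≃ {s : G // s • a = b ∧ s • b = a} where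
  toFun d := ⟨s₀ * d, by rw [mul_smul, mem_stabilizer_iff.1 d.2.1, h1],
    by rw [mul_smul, mem_stabilizer_iff.1 d.2.2, h2]⟩
  invFun s := ⟨s₀⁻¹ * s.1, ⟨by
      show (s₀⁻¹ * s.1) • a = a
      rw [mul_smul, s.2.1, inv_smul_eq_iff, h1], by
      show (s₀⁻¹ * s.1) • b = b
      rw [mul_smul, s.2.2, inv_smul_eq_iff, h2]⟩⟩
  left_inv d := Subtype.ext (inv_mul_cancel_left s₀ d.1)
  right_inv s := Subtype.ext (mul_inv_cancel_left s₀ s.1)

variable [Finite G] [Finite Ω]

/-- Every element exchanging two points is conjugate to `t`, and the centraliser of `t` is regular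
on each of its moved orbits. -/
theorem swap_conj [FaithfulSMul G Ω]
    (two : ∀ a b c d : Ω, a ≠ b → c ≠ d → ∃ g : G, g • a = c ∧ g • b = d) {i : ℕ} {t : G}
    (ht : t ≠ 1) (ht2 : t * t = 1) (hti : fx Ω t = i)
    (hfix : ∀ g : G, g * t = t * g → g ≠ 1 → fx Ω g = i) :
    (∀ a b : Ω, a ≠ b → ∀ s : G, s • a = b → s • b = a → IsConj t s) ∧
      Nat.card (Subgroup.centralizer ({t} : Set G)) + i = Nat.card Ω := by
  classical
  have hM := fx_add_card (Ω := Ω) t
  rw [hti] at hM
  obtain ⟨m₀, hm₀⟩ := moved_nonempty (Ω := Ω) ht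
  haveI : Nonempty {x : Ω // t • x ≠ x} := ⟨⟨m₀, hm₀⟩⟩
  have hMpos : 0 < Nat.card {x : Ω // t • x ≠ x} := Nat.card_pos
  have hcle := Nat.le_of_dvd hMpos (centralizer_dvd hfix hti)
  set C := Subgroup.centralizer ({t} : Set G) with hC
  let P := {p : Ω × Ω // p.1 ≠ p.2}
  let T : Ω → Ω → Type _ := fun x y => {g : G // t • g⁻¹ • x = g⁻¹ • y}
  -- counting
  let e1 : G × {x : Ω // t • x ≠ x} ≃ Σ p : P, T p.1.1 p.1.2 :=
    { toFun := fun q => ⟨⟨(q.1 • q.2.1, q.1 • t • q.2.1),
        fun e => q.2.2 (smul_left_cancel q.1 e).symm⟩,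
        ⟨q.1, by simp only [inv_smul_smul]⟩⟩
      invFun := fun r => (r.2.1, ⟨r.2.1⁻¹ • r.1.1.1, fun e => r.1.2 (by
        have h := r.2.2
        rw [e] at h
        exact smul_left_cancel _ h)⟩)
      left_inv := fun q => Prod.ext rfl (Subtype.ext (inv_smul_smul _ _))
      right_inv := fun r => by
        obtain ⟨⟨⟨x, y⟩, hxy⟩, g, hg⟩ := r
        have hx : g • g⁻¹ • x = x := smul_inv_smul g x
        have hy : g • t • g⁻¹ • x = y := by rw [hg, smul_inv_smul]
        dsimp only
        congr 1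
        · exact Subtype.ext (Prod.ext hx hy)
        · refine (Subtype.heq_iff_coe_eq fun z => ?_).2 rfl
          rw [hx, hy] }
  have main : ∀ a b : Ω, a ≠ b →
      Nat.card (T a b) = Nat.card (pst G a b) * Nat.card {x : Ω // t • x ≠ x} := by
    intro a b hab
    choose h h1 h2 using fun p : P => two a b p.1.1 p.1.2 hab p.2
    have eT : ∀ p : P, T p.1.1 p.1.2 ≃ T a b := fun p =>
      { toFun := fun g => ⟨(h p)⁻¹ * g.1, by
          simp only [mul_inv_rev, inv_inv, mul_smul, h1, h2]; exact g.2⟩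
        invFun := fun g => ⟨h p * g.1, by
          simp only [mul_inv_rev, mul_smul]
          rw [← h1 p, ← h2 p, inv_smul_smul, inv_smul_smul]; exact g.2⟩
        left_inv := fun g => Subtype.ext (mul_inv_cancel_left (h p) g.1)
        right_inv := fun g => Subtype.ext (inv_mul_cancel_left (h p) g.1) }
    let e2 : G ≃ Σ _ : P, pst G a b :=
      { toFun := fun g => ⟨⟨(g • a, g • b), fun e => hab (smul_left_cancel g e)⟩,
          ⟨(h ⟨(g • a, g • b), fun e => hab (smul_left_cancel g e)⟩)⁻¹ * g,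
            ⟨by
              show (_ * g) • a = a
              rw [mul_smul, inv_smul_eq_iff, h1], by
              show (_ * g) • b = b
              rw [mul_smul, inv_smul_eq_iff, h2]⟩⟩⟩
        invFun := fun r => h r.1 * r.2.1
        left_inv := fun g => mul_inv_cancel_left _ g
        right_inv := fun r => by
          obtain ⟨p, d, hd⟩ := r
          have hp : (⟨((h p * d) • a, (h p * d) • b), fun e => hab (smul_left_cancel _ e)⟩ : P) = p := by
            refine Subtype.ext (Prod.ext ?_ ?_)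
            · show (h p * d) • a = _
              rw [mul_smul, mem_stabilizer_iff.1 hd.1, h1]
            · show (h p * d) • b = _
              rw [mul_smul, mem_stabilizer_iff.1 hd.2, h2]
          refine Sigma.ext hp (heq_of_eq (Subtype.ext ?_))
          show (h _)⁻¹ * (h p * d) = d
          rw [hp, inv_mul_cancel_left] }
    have c1 := Nat.card_congr (e1.trans ((Equiv.sigmaCongrRight eT).trans
      (Equiv.sigmaEquivProd P (T a b))))
    have c2 := Nat.card_congr (e2.trans (Equiv.sigmaEquivProd P (pst G a b)))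
    rw [Nat.card_prod, Nat.card_prod] at c1
    rw [Nat.card_prod] at c2
    rw [c2, mul_assoc] at c1
    haveI : Nonempty P := ⟨⟨(a, b), hab⟩⟩
    exact (Nat.eq_of_mul_eq_mul_left Nat.card_pos c1).symm
  -- the map to the exchanging elements
  have hS : ∀ a b : Ω, a ≠ b →
      Nat.card {s : G // s • a = b ∧ s • b = a} = Nat.card (pst G a b) := by
    intro a b hab
    obtain ⟨s₀, h1, h2⟩ := exists_swap two hab
    exact (Nat.card_congr (swapEquiv h1 h2)).symm
  have key : ∀ a b : Ω, a ≠ b →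
      (∀ s : G, s • a = b → s • b = a → IsConj t s) ∧
        Nat.card {x : Ω // t • x ≠ x} ≤ Nat.card C := by
    intro a b hab
    haveI := Fintype.ofFinite {s : G // s • a = b ∧ s • b = a}
    let ψ : T a b → {s : G // s • a = b ∧ s • b = a} := fun g => ⟨g.1 * t * g.1⁻¹, by
      rw [mul_smul, mul_smul, g.2, smul_inv_smul], by
      rw [mul_smul, mul_smul, ← g.2, ← mul_smul t t, ht2, one_smul, smul_inv_smul]⟩
    have hfib : ∀ s, Nat.card {g : T a b // ψ g = s} ≤ Nat.card C := by
      intro s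
      rcases isEmpty_or_nonempty {g : T a b // ψ g = s} with hE | ⟨⟨g₀, hg₀⟩⟩
      · rw [Nat.card_of_isEmpty]; exact Nat.zero_le _
      refine Nat.card_le_card_of_injective (fun g => (⟨g₀.1⁻¹ * g.1.1,
        Subgroup.mem_centralizer_singleton_iff.2 ?_⟩ : C)) ?_
      · have e : g.1.1 * t * g.1.1⁻¹ = g₀.1 * t * g₀.1⁻¹ :=
          congrArg Subtype.val (g.2.trans hg₀.symm)
        calc g₀.1⁻¹ * g.1.1 * t = g₀.1⁻¹ * (g.1.1 * t * g.1.1⁻¹) * g.1.1 := by group
          _ = t * (g₀.1⁻¹ * g.1.1) := by rw [e]; group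
      · intro g g' e
        exact Subtype.ext (Subtype.ext (mul_left_cancel (congrArg Subtype.val e)))
    have hTsum : Nat.card (T a b) = ∑ s, Nat.card {g : T a b // ψ g = s} := by
      rw [← Nat.card_sigma]; exact (Nat.card_congr (Equiv.sigmaFiberEquiv ψ)).symm
    have hδ : 0 < Nat.card (pst G a b) := Nat.card_pos
    rw [main a b hab] at hTsum
    have hcard : Fintype.card {s : G // s • a = b ∧ s • b = a} = Nat.card (pst G a b) := by
      rw [← Nat.card_eq_fintype_card, hS a b hab]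
    refine ⟨fun s h1 h2 => ?_, ?_⟩
    · by_contra hs
      have hz : Nat.card {g : T a b // ψ g = ⟨s, h1, h2⟩} = 0 := by
        rw [Nat.card_eq_zero]
        exact Or.inl ⟨fun g => hs (isConj_iff.2 ⟨g.1.1, congrArg Subtype.val g.2⟩)⟩
      rw [← Finset.add_sum_erase _ _ (Finset.mem_univ (⟨s, h1, h2⟩ : {s : G // s • a = b ∧ s • b = a})),
        hz, zero_add] at hTsum
      have hle := Finset.sum_le_card_nsmul
        (Finset.univ.erase (⟨s, h1, h2⟩ : {s : G // s • a = b ∧ s • b = a}))
        (fun r => Nat.card {g : T a b // ψ g = r}) (Nat.card C) fun r _ => hfib r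
      rw [← hTsum, Finset.card_erase_of_mem (Finset.mem_univ _), Finset.card_univ, hcard,
        smul_eq_mul] at hle
      have := hle.trans (Nat.mul_le_mul_left _ hcle)
      have := Nat.le_of_mul_le_mul_right this hMpos
      omega
    · have hle := Finset.sum_le_card_nsmul Finset.univ
        (fun r => Nat.card {g : T a b // ψ g = r}) (Nat.card C) fun r _ => hfib r
      rw [← hTsum, Finset.card_univ, hcard, smul_eq_mul] at hle
      exact Nat.le_of_mul_le_mul_left hle hδ
  refine ⟨fun a b hab => (key a b hab).1, ?_⟩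
  have := (key m₀ (t • m₀) (Ne.symm hm₀)).2
  omega

/-- The hypothesis holds for every involution. -/
theorem hyp_of_const [FaithfulSMul G Ω]
    (two : ∀ a b c d : Ω, a ≠ b → c ≠ d → ∃ g : G, g • a = c ∧ g • b = d) {i : ℕ} {t : G}
    (ht : t ≠ 1) (ht2 : t * t = 1) (hti : fx Ω t = i)
    (hfix : ∀ g : G, g * t = t * g → g ≠ 1 → fx Ω g = i) : Hyp G Ω i := by
  obtain ⟨hsw, hcent⟩ := swap_conj two ht ht2 hti hfix
  have hsq : ∀ {s : G}, IsConj t s → s * s = 1 := by
    intro s hs
    obtain ⟨c, rfl⟩ := isConj_iff.1 hs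
    rw [show c * t * c⁻¹ * (c * t * c⁻¹) = c * (t * t) * c⁻¹ by group, ht2]; group
  have hinv : ∀ w : G, w ≠ 1 → w * w = 1 → IsConj t w := by
    intro w hw hw2
    obtain ⟨x, hx⟩ := moved_nonempty (Ω := Ω) hw
    exact hsw x (w • x) (Ne.symm hx) w rfl (by rw [← mul_smul, hw2, one_smul])
  have hconst : ∀ w : G, w ≠ 1 → w * w = 1 → ∀ g : G, g ≠ 1 → g * w = w * g → fx Ω g = i := by
    intro w hw hw2 g hg hgw
    obtain ⟨c, rfl⟩ := isConj_iff.1 (hinv w hw hw2)
    have h := hfix (c⁻¹ * g * c) (by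
      calc c⁻¹ * g * c * t = c⁻¹ * (g * (c * t * c⁻¹)) * c := by group
        _ = t * (c⁻¹ * g * c) := by rw [hgw]; group)
      (fun e => hg (by
        calc g = c * (c⁻¹ * g * c) * c⁻¹ := by group
          _ = 1 := by rw [e]; group))
    have h2 := fx_conj (Ω := Ω) c⁻¹ g
    rw [inv_inv] at h2
    exact h2.symm.trans h
  refine ⟨fun g hg => eq_of_smul_eq_smul (α := Ω) fun x => by rw [hg x, one_smul], two, hconst,
    fun a b hab s h1 h2 => hsq (hsw a b hab s h1 h2), fun w hw hw2 => ?_, t, ht, ht2⟩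
  obtain ⟨-, h⟩ := swap_conj two hw hw2 (hconst w hw hw2 w hw rfl)
    fun g hgw hg => hconst w hw hw2 g hg hgw
  exact h

namespace Hyp

variable {i : ℕ} (H : Hyp G Ω i)
include H

theorem fx_invol {w : G} (hw : w ≠ 1) (hw2 : w * w = 1) : fx Ω w = i :=
  H.const w hw hw2 w hw rfl

/-- An element exchanging two points inverts their stabiliser. -/
theorem inverts {a b : Ω} (hab : a ≠ b) {s d : G} (hsa : s • a = b) (hsb : s • b = a)
    (hd : d ∈ pst G a b) : s * d * s⁻¹ = d⁻¹ := by
  have h1 := H.swap a b hab s hsa hsb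
  have h2 := H.swap a b hab (s * d) (by rw [mul_smul, mem_stabilizer_iff.1 hd.1, hsa])
    (by rw [mul_smul, mem_stabilizer_iff.1 hd.2, hsb])
  rw [inv_eq_of_mul_eq_one_right h1]
  refine eq_inv_of_mul_eq_one_left ?_
  rw [← h2]; group

theorem comm {a b : Ω} (hab : a ≠ b) {d e : G} (hd : d ∈ pst G a b) (he : e ∈ pst G a b) :
    d * e = e * d := by
  obtain ⟨s, h1, h2⟩ := exists_swap H.two hab
  have h := H.inverts hab h1 h2 (mul_mem hd he)
  rw [show s * (d * e) * s⁻¹ = (s * d * s⁻¹) * (s * e * s⁻¹) by group, H.inverts hab h1 h2 hd,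
    H.inverts hab h1 h2 he, ← mul_inv_rev, inv_inj] at h
  exact h.symm

/-- A non-trivial normal subgroup is transitive. -/
theorem normal_transitive (N : Subgroup G) [N.Normal] (hN : N ≠ ⊥) :
    ∀ x y : Ω, ∃ r ∈ N, r • x = y := by
  obtain ⟨m, hm, hm1⟩ := (Subgroup.bot_or_exists_ne_one N).resolve_left hN
  obtain ⟨c, hc⟩ : ∃ c : Ω, m • c ≠ c := by
    by_contra! h
    exact hm1 (H.faith m h)
  intro x y
  rcases eq_or_ne x y with rfl | hxy
  · exact ⟨1, one_mem N, one_smul G x⟩
  obtain ⟨g, hg1, hg2⟩ := H.two c (m • c) x y (Ne.symm hc) hxy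
  exact ⟨g * m * g⁻¹, (inferInstance : N.Normal).conj_mem m hm g,
    by rw [mul_smul, mul_smul, ← hg1, inv_smul_smul, hg2]⟩

theorem rn_of_abelian (N : Subgroup G) [N.Normal] (hN : N ≠ ⊥)
    (hc : ∀ x ∈ N, ∀ y ∈ N, x * y = y * x) : RN G Ω := by
  refine ⟨N, inferInstance, H.normal_transitive N hN, fun x r hr hrx => H.faith r fun y => ?_⟩
  obtain ⟨n, hn, rfl⟩ := H.normal_transitive N hN x y
  rw [← mul_smul, hc r hr n hn, mul_smul, hrx]

/-- A non-trivial soluble normal subgroup gives a regular normal subgroup. -/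
theorem rn_of_solvable (N : Subgroup G) [hNn : N.Normal] (hN : N ≠ ⊥)
    (hs : Group.IsSolvable N) : RN G Ω := by
  classical
  haveI : Nontrivial N := (Subgroup.nontrivial_iff_ne_bot N).2 hN
  obtain ⟨k, hk⟩ := hs.solvable
  induction k with
  | zero =>
    rw [derivedSeries_zero] at hk
    exact absurd hk top_ne_bot
  | succ k ih =>
    by_cases h : derivedSeries N k = ⊥
    · exact ih h
    refine H.rn_of_abelian ((derivedSeries N k).map N.subtype)
      (fun e => h (by rwa [Subgroup.map_eq_bot_iff_of_injective _ N.subtype_injective] at e)) ?_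
    rintro _ ⟨x, hx, rfl⟩ _ ⟨y, hy, rfl⟩
    have hm := Subgroup.commutator_mem_commutator hx hy
    rw [← derivedSeries_succ, hk, Subgroup.mem_bot, commutatorElement_eq_one_iff_mul_comm] at hm
    exact congrArg Subtype.val hm

/-- If only the identity fixes two points there is a regular normal subgroup. -/
theorem rn_of_sharp (hn : 2 ≤ Nat.card Ω)
    (h : ∀ g : G, ∀ a b : Ω, a ≠ b → g • a = a → g • b = b → g = 1) : RN G Ω := by
  haveI := Fintype.ofFinite Ω
  haveI : FaithfulSMul G Ω := ⟨fun {g g'} hgg => by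
    have := H.faith (g'⁻¹ * g) fun x => by rw [mul_smul, hgg x, inv_smul_smul]
    exact (inv_mul_eq_one.1 this).symm⟩
  have h2 : IsMultiplyPretransitive (⊤ : Subgroup G) Ω 2 := by
    rw [is_two_pretransitive_iff]
    intro a b c d hab hcd
    obtain ⟨g, h1, h2⟩ := H.two a b c d hab hcd
    exact ⟨⟨g, Subgroup.mem_top g⟩, h1, h2⟩
  obtain ⟨N, hN, hNt, hNr⟩ := CfsgLib.Perm.exists_regular_normal (G := G) (α := Ω) ⊤ h2
    (by rwa [← Nat.card_eq_fintype_card]) fun g a b hab ha hb => Subtype.ext (h g a b hab ha hb)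
  refine ⟨N, hN, fun x y => ?_, fun x r hr hrx => ?_⟩
  · obtain ⟨r, hr⟩ := hNt.exists_smul_eq x y
    exact ⟨r, r.2, hr⟩
  · have hm : (⟨r, hr⟩ : N) ∈ stabilizer N x := hrx
    rw [hNr x, Subgroup.mem_bot] at hm
    exact congrArg Subtype.val hm

end Hyp

end CfsgLib.Perm.ConstFix
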