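import Cfsg.Agent.Lib.Perm.ConstFix.Basic
import Cfsg.Agent.S0219
import Cfsg.Agent.S1230
import Cfsg.Agent.Lib.DGroup.Odd

/-!
Constant fixity at least three: involution centralisers are elementary abelian.
-/

set_option autoImplicit false
set_option linter.unusedSectionVars false
set_option linter.style.haveILetI false

open MulAction

namespace CfsgLib.Perm.ConstFix

variable {G Ω : Type*} [Group G] [MulAction G Ω] [Finite G] [Finite Ω]

/-- An element of order at least three commuting with an involution has the same fixed points. -/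
theorem Hyp.fix_eq {i : ℕ} (H : Hyp G Ω i) {w g : G} (hw : w ≠ 1) (hw2 : w * w = 1)
    (hgw : g * w = w * g) (hg : g * g ≠ 1) (x : Ω) : g • x = x ↔ w • x = x := by
  classical
  have hg1 : g ≠ 1 := fun e => hg (by rw [e, one_mul])
  have hcgw : (g * w) * w = w * (g * w) := by rw [← mul_assoc, ← hgw]
  have hsq : g * w * (g * w) = g * g := by
    rw [show g * w * (g * w) = g * (w * g) * w by group, ← hgw,
      show g * (g * w) * w = g * g * (w * w) by group, hw2, mul_one]
  have hgw1 : g * w ≠ 1 := fun e => hg (by rw [← hsq, e, one_mul])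
  let A : G → Set Ω := fun k => {y | k • y = y}
  have hc : ∀ k, k ≠ 1 → k * w = w * k → (A k).ncard = i := fun k h1 h2 =>
    (Nat.card_coe_set_eq _).symm.trans (H.const w hw hw2 k h1 h2)
  have hgg : (g * g) * w = w * (g * g) := by
    rw [mul_assoc, hgw, ← mul_assoc, hgw, mul_assoc]
  have s1 : A g ⊆ A (g * g) := fun y hy => by
    show (g * g) • y = y
    rw [mul_smul, show g • y = y from hy, hy]
  have s2 : A (g * w) ⊆ A (g * g) := fun y hy => by
    show (g * g) • y = y
    rw [← hsq, mul_smul, show (g * w) • y = y from hy, hy]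
  have e1 : A g = A (g * g) := Set.eq_of_subset_of_ncard_le s1
    (by rw [hc g hg1 hgw, hc _ hg hgg]) (Set.toFinite _)
  have e2 : A (g * w) = A (g * g) := Set.eq_of_subset_of_ncard_le s2
    (by rw [hc _ hgw1 hcgw, hc _ hg hgg]) (Set.toFinite _)
  have s3 : A g ⊆ A w := fun y hy => by
    have hy' : y ∈ A (g * w) := by rw [e2, ← e1]; exact hy
    have h : g • w • y = g • y := by
      rw [← mul_smul, show (g * w) • y = y from hy', show g • y = y from hy]
    exact smul_left_cancel g h
  have e3 : A g = A w := Set.eq_of_subset_of_ncard_le s3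
    (by rw [hc g hg1 hgw, hc w hw rfl]) (Set.toFinite _)
  exact Set.ext_iff.1 e3 x

theorem Hyp.sq_eq_one {i : ℕ} (H : Hyp G Ω i) (hi : 3 ≤ i) {w g : G} (hw : w ≠ 1)
    (hw2 : w * w = 1) (hgw : g * w = w * g) : g * g = 1 := by
  classical
  by_contra hg
  have hfx := H.fx_invol hw hw2
  obtain ⟨a, b, c, ha, hb, hc, hab, hac, hbc⟩ : ∃ a b c : Ω,
      w • a = a ∧ w • b = b ∧ w • c = c ∧ a ≠ b ∧ a ≠ c ∧ b ≠ c := by
    have h3 : 2 < {x : Ω | w • x = x}.ncard := by
      rw [← Nat.card_coe_set_eq]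
      exact lt_of_lt_of_le hi (le_of_eq hfx.symm)
    obtain ⟨a, ha, b, hb, c, hc, hab, hac, hbc⟩ := (Set.two_lt_ncard (Set.toFinite _)).1 h3
    exact ⟨a, b, c, ha, hb, hc, hab, hac, hbc⟩
  obtain ⟨u, hua, hub⟩ := exists_swap H.two hab
  obtain ⟨v, hva, hvc⟩ := exists_swap H.two hac
  have hfix := H.fix_eq hw hw2 hgw hg
  have hu : ∀ z ∈ pst G a b, u * z * u⁻¹ = z⁻¹ := fun z hz => H.inverts hab hua hub hz
  have hv : ∀ z ∈ pst G a c, v * z * v⁻¹ = z⁻¹ := fun z hz => H.inverts hac hva hvc hz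
  have hk : ∀ z : G, z ∈ pst G a b → z ∈ pst G a c → z * (u * v) = u * v * z := by
    intro z hzb hzc
    have e : (u * v) * z * (u * v)⁻¹ = z := by
      rw [show (u * v) * z * (u * v)⁻¹ = u * (v * z * v⁻¹) * u⁻¹ by group, hv z hzc,
        hu _ (inv_mem hzb), inv_inv]
    exact (eq_mul_inv_iff_mul_eq.1 e.symm)
  have hkw := hk w ⟨ha, hb⟩ ⟨ha, hc⟩
  have hkg := hk g ⟨(hfix a).2 ha, (hfix b).2 hb⟩ ⟨(hfix a).2 ha, (hfix c).2 hc⟩
  have hkc : (u * v) • c = b := by rw [mul_smul, hvc, hua]
  have hk2 : u * v * (u * v) = 1 := by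
    by_contra hne
    exact hbc (hkc.symm.trans ((H.fix_eq hw hw2 hkw.symm hne c).2 hc))
  set k := u * v
  have hkgw : k * g * w = w * (k * g) := by
    rw [mul_assoc, hgw, ← mul_assoc, ← hkw, mul_assoc]
  have hsq : k * g * (k * g) = g * g := by
    rw [show k * g * (k * g) = k * (g * k) * g by group, hkg,
      show k * (k * g) * g = k * k * (g * g) by group, hk2, one_mul]
  have h := (H.fix_eq hw hw2 hkgw (by rwa [hsq]) c).2 hc
  rw [mul_smul, (hfix c).2 hc, hkc] at h
  exact hbc h

/-- For constant fixity at least three there is a regular normal subgroup or `G` is `PSL₂`. -/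
theorem Hyp.large {i : ℕ} (H : Hyp G Ω i) (hi : 3 ≤ i) :
    RN G Ω ∨ ∃ (F : Type) (_ : Field F) (_ : Fintype F),
      Nonempty (G ≃* Matrix.ProjectiveSpecialLinearGroup (Fin 2) F) := by
  classical
  haveI : Fact (Nat.Prime 2) := ⟨Nat.prime_two⟩
  obtain ⟨w₀, hw₀, hw₀2⟩ := H.exists_invol
  have hev : 2 ∣ Nat.card G :=
    orderOf_eq_prime (by rw [pow_two]; exact hw₀2) hw₀ ▸ orderOf_dvd_natCard w₀
  have hsq : ∀ w g : G, orderOf w = 2 → g * w = w * g → g * g = 1 := fun w g hw hg =>
    H.sq_eq_one hi (fun e => by rw [e, orderOf_one] at hw; omega)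
      (by rw [← pow_two, ← hw, pow_orderOf_eq_one]) hg
  obtain ⟨T⟩ := (inferInstance : Nonempty (Sylow 2 G))
  have hTne : (T : Subgroup G) ≠ ⊥ := T.ne_bot_of_dvd_card hev
  by_cases hn : (T : Subgroup G).Normal
  · haveI := hn
    haveI : Group.IsNilpotent (T : Subgroup G) := T.isPGroup'.isNilpotent
    exact Or.inl (H.rn_of_solvable _ hTne inferInstance)
  by_cases hc : IsCyclic (T : Subgroup G)
  · left
    obtain ⟨K, hK⟩ := Cfsg.Agent.S0219.result (even_iff_two_dvd.2 hev) T hc
    haveI := Subgroup.normal_of_index_eq_two hK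
    obtain ⟨g, hg⟩ := hc.exists_generator
    have hTo : orderOf g = Nat.card (T : Subgroup G) := orderOf_eq_card_of_forall_mem_zpowers hg
    have hT1 : Nat.card (T : Subgroup G) ≠ 1 := fun e => hTne (Subgroup.eq_bot_of_card_eq _ e)
    obtain ⟨k, hk⟩ := T.isPGroup'.exists_card_eq
    have hT2 : 2 ∣ Nat.card (T : Subgroup G) := by
      rw [hk]
      exact dvd_pow_self 2 (fun e => hT1 (by rw [hk, e, pow_zero]))
    obtain ⟨z, hz⟩ := exists_prime_orderOf_dvd_card' 2 hT2
    obtain ⟨j, hj⟩ := Subgroup.mem_zpowers_iff.1 (hg z)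
    have hgz : g * z = z * g := by rw [← hj]; exact ((Commute.refl g).zpow_right j).eq
    have h2 : (g : G) * g = 1 := hsq (z : G) g (by rw [Subgroup.orderOf_coe]; exact hz)
      (congrArg Subtype.val hgz)
    have hcard : Nat.card (T : Subgroup G) = 2 := by
      rw [← hTo, ← Subgroup.orderOf_coe]
      refine orderOf_eq_prime (by rw [pow_two]; exact h2) fun e => hT1 ?_
      rw [← hTo, ← Subgroup.orderOf_coe, e, orderOf_one]
    have hodd : Odd (Nat.card K) := by
      rw [Nat.odd_iff, ← Nat.two_dvd_ne_zero]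
      intro h
      have h4 : 4 ∣ Nat.card G := by
        rw [← K.card_mul_index, hK]; exact mul_dvd_mul_right h 2
      have hle : 2 ≤ (Nat.card G).factorization 2 :=
        (Nat.Prime.pow_dvd_iff_le_factorization Nat.prime_two Nat.card_pos.ne').1 h4
      rw [T.card_eq_multiplicity] at hcard
      have := Nat.pow_le_pow_right two_pos hle
      omega
    haveI : Group.IsSolvable K := CfsgLib.DGroup.isSolvable_of_odd_card hodd
    rcases eq_or_ne K ⊥ with hKb | hKb
    · rw [hKb, Subgroup.index_bot] at hK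
      haveI : Fact (Nat.Prime 2) := ⟨Nat.prime_two⟩
      have hcy : IsCyclic G := isCyclic_of_prime_card hK
      obtain ⟨s, hs⟩ := hcy.exists_generator
      refine H.rn_of_abelian ⊤ (fun e => hw₀ ?_) fun x _ y _ => ?_
      · rw [← Subgroup.mem_bot, ← e]; exact Subgroup.mem_top _
      · obtain ⟨a, rfl⟩ := Subgroup.mem_zpowers_iff.1 (hs x)
        obtain ⟨b, rfl⟩ := Subgroup.mem_zpowers_iff.1 (hs y)
        exact ((Commute.refl s).zpow_zpow a b).eq
    · exact H.rn_of_solvable K hKb inferInstance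
  obtain ⟨F, hF, hF', -, hiso⟩ := Cfsg.Agent.S1230.result T hc hn fun t ht => by
    have hsq' : ∀ c ∈ Subgroup.centralizer ({t} : Set G), c * c = 1 := fun c hc =>
      hsq t c ht (Subgroup.mem_centralizer_singleton_iff.1 hc)
    refine ⟨⟨⟨fun a b => Subtype.ext ?_⟩⟩, fun c hc => by rw [pow_two]; exact hsq' c hc⟩
    show (a : G) * b = b * a
    have ha := inv_eq_of_mul_eq_one_right (hsq' a a.2)
    have hb := inv_eq_of_mul_eq_one_right (hsq' b b.2)
    have hab := inv_eq_of_mul_eq_one_right (hsq' _ (mul_mem a.2 b.2))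
    rw [mul_inv_rev, ha, hb] at hab
    exact hab.symm
  exact Or.inr ⟨F, hF, hF', hiso⟩

end CfsgLib.Perm.ConstFix
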