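import Cfsg.Agent.Lib.Perm.ConstFix.Basic
import Cfsg.Agent.Lib.Perm.ZassenhausInv
import Cfsg.Agent.Lib.DGroup.Odd

/-!
Constant fixity at most two: no non-identity element fixes three points.
-/

set_option autoImplicit false
set_option linter.unusedSectionVars false
set_option linter.style.haveILetI false

open MulAction
open scoped commutatorElement

namespace CfsgLib.Perm.ConstFix

variable {G Ω : Type*} [Group G] [MulAction G Ω] [Finite G] [Finite Ω]

/-- The parity of the number of moved points of an involution. -/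
theorem fx_parity {w : G} (hw2 : w * w = 1) : (Even (Nat.card Ω) ↔ Even (fx Ω w)) := by
  haveI := Fintype.ofFinite Ω
  rw [Nat.card_eq_fintype_card, CfsgLib.Perm.card_fixedBy_parity hw2]
  rfl

namespace Hyp

variable {i : ℕ} (H : Hyp G Ω i)
include H

/-- No involution fixes two points when the fixity is at most one. -/
theorem no_invol_pair (hi : i < 2) {a b : Ω} (hab : a ≠ b) {w : G} (hw : w ∈ pst G a b)
    (hw2 : w * w = 1) : w = 1 := by
  by_contra h1
  have h := H.fx_invol h1 hw2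
  have : 1 < {x : Ω | w • x = x}.ncard :=
    (Set.one_lt_ncard).2 ⟨a, hw.1, b, hw.2, hab⟩
  rw [← Nat.card_coe_set_eq] at this
  change 1 < fx Ω w at this
  omega

theorem pst_odd (hi : i < 2) {a b : Ω} (hab : a ≠ b) : Odd (Nat.card (pst G a b)) := by
  haveI : Fact (Nat.Prime 2) := ⟨Nat.prime_two⟩
  rw [Nat.odd_iff, ← Nat.two_dvd_ne_zero]
  intro h
  obtain ⟨w, hw⟩ := exists_prime_orderOf_dvd_card' 2 h
  have h2 : (w : G) * w = 1 := by
    rw [← Subgroup.coe_mul, ← pow_two, ← hw, pow_orderOf_eq_one, OneMemClass.coe_one]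
  have := H.no_invol_pair hi hab w.2 h2
  rw [← Subgroup.orderOf_coe, this, orderOf_one] at hw
  omega

/-- A non-trivial element fixing two points, one of them and a third one, has odd centraliser. -/
theorem centralizer_odd (hi : i < 2) {a b : Ω} (hab : a ≠ b) {d : G} (hd : d ∈ pst G a b)
    (hd1 : d ≠ 1) : Odd (Nat.card (Subgroup.centralizer ({d} : Set G))) := by
  haveI : Fact (Nat.Prime 2) := ⟨Nat.prime_two⟩
  rw [Nat.odd_iff, ← Nat.two_dvd_ne_zero]
  intro h
  obtain ⟨w, hw⟩ := exists_prime_orderOf_dvd_card' 2 h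
  have hw1 : (w : G) ≠ 1 := fun e => by rw [← Subgroup.orderOf_coe, e, orderOf_one] at hw; omega
  have h2 : (w : G) * w = 1 := by
    rw [← Subgroup.coe_mul, ← pow_two, ← hw, pow_orderOf_eq_one, OneMemClass.coe_one]
  have h := H.const w hw1 h2 d hd1 (Subgroup.mem_centralizer_singleton_iff.1 w.2).symm
  have : 1 < {x : Ω | d • x = x}.ncard :=
    (Set.one_lt_ncard).2 ⟨a, hd.1, b, hd.2, hab⟩
  rw [← Nat.card_coe_set_eq] at this
  change 1 < fx Ω d at this
  omega

/-- The centraliser is transitive on a set of fixed points with at least three members. -/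
theorem centralizer_trans {d : G} (h3 : 2 < {x : Ω | d • x = x}.ncard) {x y : Ω}
    (hx : d • x = x) (hy : d • y = y) :
    ∃ m ∈ Subgroup.centralizer ({d} : Set G), m • x = y := by
  classical
  rcases eq_or_ne x y with rfl | hxy
  · exact ⟨1, one_mem _, one_smul G x⟩
  obtain ⟨z, hz, hzx, hzy⟩ : ∃ z, d • z = z ∧ z ≠ x ∧ z ≠ y := by
    by_contra! hcon
    have hsub : {w : Ω | d • w = w} ⊆ {x, y} := fun w hw => by
      by_contra hn
      exact hn (by
        rcases eq_or_ne w x with e | e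
        · exact Or.inl e
        · exact Or.inr (hcon w hw e))
    have := (Set.ncard_le_ncard hsub (Set.toFinite _)).trans (Set.ncard_insert_le x {y})
    rw [Set.ncard_singleton] at this
    omega
  obtain ⟨u, hux, huz⟩ := exists_swap H.two hzx.symm
  obtain ⟨v, hvz, hvy⟩ := exists_swap H.two hzy
  refine ⟨v * u, Subgroup.mem_centralizer_singleton_iff.2 ?_, by rw [mul_smul, hux, hvz]⟩
  have e : (v * u) * d * (v * u)⁻¹ = d := by
    rw [show (v * u) * d * (v * u)⁻¹ = v * (u * d * u⁻¹) * v⁻¹ by group,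
      H.inverts hzx.symm hux huz ⟨hx, hz⟩, H.inverts hzy hvz hvy (inv_mem ⟨hz, hy⟩),
      inv_inv]
  exact (eq_mul_inv_iff_mul_eq.1 e.symm).symm

end Hyp

end CfsgLib.Perm.ConstFix

namespace CfsgLib.Perm.ConstFix

variable {G Ω : Type*} [Group G] [MulAction G Ω] [Finite G] [Finite Ω]

namespace Hyp

theorem inverted_of_fix {i : ℕ} (H : Hyp G Ω i) (hi : i = 1) {a b c : Ω} (hab : a ≠ b)
    (hac : a ≠ c) (hbc : b ≠ c) {d : G} (ha : d • a = a) (hb : d • b = b) (hc : d • c = c)
    (hd1 : d ≠ 1) {e : G} (he1 : e ≠ 1) (he2 : e * e = 1) (hea : e • a = a) :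
    e * d * e⁻¹ = d⁻¹ := by
  classical
  haveI : Fintype Ω := Fintype.ofFinite Ω
  haveI : Fintype G := Fintype.ofFinite G
  subst hi
  let F : Set Ω := {x | d • x = x}
  have h3 : 2 < F.ncard := (Set.two_lt_ncard (Set.toFinite _)).2 ⟨a, ha, b, hb, c, hc, hab, hac, hbc⟩
  have hCodd := H.centralizer_odd (by omega) hab ⟨ha, hb⟩ hd1
  -- parity
  let C := Subgroup.centralizer ({d} : Set G)
  have horb : MulAction.orbit C a = F := by
    refine Set.ext fun y => ⟨?_, fun hy => ?_⟩
    · rintro ⟨m, rfl⟩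
      show d • (m : G) • a = (m : G) • a
      rw [← mul_smul, ← Subgroup.mem_centralizer_singleton_iff.1 m.2, mul_smul, ha]
    · obtain ⟨m, hm, hma⟩ := H.centralizer_trans h3 ha hy
      exact ⟨⟨m, hm⟩, hma⟩
  have hFodd : Odd F.ncard := by
    have hdvd : F.ncard ∣ Nat.card C := by
      rw [← horb, ← Nat.card_coe_set_eq,
        Nat.card_congr (MulAction.orbitEquivQuotientStabilizer C a)]
      exact Subgroup.card_quotient_dvd_card _
    exact hCodd.of_dvd_nat hdvd
  -- involutions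
  let I := {w : G // w ≠ 1 ∧ w * w = 1}
  let W := {w : I // (w : G) * d * (w : G)⁻¹ = d⁻¹}
  have hone : ∀ w : I, {x : Ω | (w : G) • x = x}.ncard = 1 := fun w => by
    rw [← Nat.card_coe_set_eq]; exact H.fx_invol w.2.1 w.2.2
  have huniq : ∀ w : I, ∀ x y : Ω, (w : G) • x = x → (w : G) • y = y → x = y := fun w x y hx hy => by
    obtain ⟨z, hz⟩ := Set.ncard_eq_one.1 (hone w)
    exact ((Set.ext_iff.1 hz x).1 hx).trans ((Set.ext_iff.1 hz y).1 hy).symm
  have hswap : ∀ x y : Ω, x ≠ y → Nat.card {w : I // (w : G) • x = y} = Nat.card (pst G a b) := by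
    intro x y hxy
    obtain ⟨s₀, h1, h2⟩ := exists_swap H.two hxy
    obtain ⟨g, hga, hgb⟩ := H.two a b x y hab hxy
    have e0 : Nat.card (pst G x y) = Nat.card (pst G a b) := by
      refine (Nat.card_congr (α := pst G a b) (β := pst G x y)
        { toFun := fun z => ⟨g * (z : G) * g⁻¹, ⟨?_, ?_⟩⟩
          invFun := fun z => ⟨g⁻¹ * (z : G) * g, ⟨?_, ?_⟩⟩
          left_inv := fun z => Subtype.ext (by simp [mul_assoc])
          right_inv := fun z => Subtype.ext (by simp [mul_assoc]) }).symm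
      · show (g * (z : G) * g⁻¹) • x = x
        rw [← hga, mul_smul, mul_smul, inv_smul_smul, mem_stabilizer_iff.1 z.2.1]
      · show (g * (z : G) * g⁻¹) • y = y
        rw [← hgb, mul_smul, mul_smul, inv_smul_smul, mem_stabilizer_iff.1 z.2.2]
      · show (g⁻¹ * (z : G) * g) • a = a
        rw [mul_smul, mul_smul, hga, mem_stabilizer_iff.1 z.2.1, ← hga, inv_smul_smul]
      · show (g⁻¹ * (z : G) * g) • b = b
        rw [mul_smul, mul_smul, hgb, mem_stabilizer_iff.1 z.2.2, ← hgb, inv_smul_smul]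
    rw [← e0, Nat.card_congr (swapEquiv h1 h2)]
    exact Nat.card_congr
      { toFun := fun w => ⟨w.1.1, w.2, (congrArg ((w.1 : G) • ·) w.2.symm).trans
          (by rw [← mul_smul, w.1.2.2, one_smul])⟩
        invFun := fun s => ⟨⟨s.1, fun e => hxy (by rw [← s.2.1, e, one_smul]),
          H.swap x y hxy s.1 s.2.1 s.2.2⟩, s.2.1⟩
        left_inv := fun w => rfl
        right_inv := fun s => rfl }
  set δ := Nat.card (pst G a b)
  -- involutions fixing a given point
  have hpoint : ∀ x : Ω, Nat.card {w : I // (w : G) • x = x} = δ := by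
    have hmoved : ∀ w : I, Nat.card {x : Ω // (w : G) • x ≠ x} + 1 = Nat.card Ω := fun w => by
      rw [← fx_add_card (Ω := Ω) (w : G), H.fx_invol w.2.1 w.2.2, add_comm]
    let e1 : (Σ w : I, {x : Ω // (w : G) • x ≠ x}) ≃
        Σ p : {p : Ω × Ω // p.1 ≠ p.2}, {w : I // (w : G) • p.1.1 = p.1.2} :=
      { toFun := fun q => ⟨⟨(q.2.1, (q.1 : G) • q.2.1), Ne.symm q.2.2⟩, q.1, rfl⟩
        invFun := fun r => ⟨r.2.1, r.1.1.1, by rw [r.2.2]; exact Ne.symm r.1.2⟩
        left_inv := fun q => rfl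
        right_inv := fun r => by
          obtain ⟨⟨⟨x, y⟩, hxy⟩, w, hw⟩ := r
          exact Sigma.subtype_ext (Subtype.ext (Prod.ext rfl hw)) rfl }
    have c1 := Nat.card_congr e1
    rw [Nat.card_sigma, Nat.card_sigma, Finset.sum_congr rfl fun p _ => hswap _ _ p.2,
      Finset.sum_const, Finset.card_univ, smul_eq_mul, ← Nat.card_eq_fintype_card] at c1
    have hm : ∀ w : I, Nat.card {x : Ω // (w : G) • x ≠ x} = Nat.card Ω - 1 := fun w => by
      have := hmoved w; omega
    rw [Finset.sum_congr rfl fun w _ => hm w, Finset.sum_const, Finset.card_univ, smul_eq_mul,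
      ← Nat.card_eq_fintype_card] at c1
    have hP : Nat.card {p : Ω × Ω // p.1 ≠ p.2} = Nat.card Ω * (Nat.card Ω - 1) := by
      rw [Nat.card_eq_fintype_card, Fintype.card_subtype,
        show (Finset.univ.filter fun p : Ω × Ω => p.1 ≠ p.2) = (Finset.univ : Finset Ω).offDiag by
          ext; simp,
        Finset.offDiag_card, Finset.card_univ, Nat.card_eq_fintype_card, Nat.mul_sub, mul_one]
    haveI : Nontrivial Ω := ⟨a, b, hab⟩
    have hn1 : 0 < Nat.card Ω - 1 := by have := Finite.one_lt_card (α := Ω); omega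
    have hI : Nat.card I = Nat.card Ω * δ := Nat.eq_of_mul_eq_mul_right hn1 (by rw [c1, hP]; ring)
    intro x
    have h1 : Nat.card I = Nat.card {w : I // (w : G) • x = x} + (Nat.card Ω - 1) * δ := by
      rw [← Nat.card_congr (Equiv.sigmaFiberEquiv fun w : I => (w : G) • x), Nat.card_sigma,
        ← Finset.add_sum_erase _ _ (Finset.mem_univ x),
        Finset.sum_congr rfl fun y hy => hswap x y (Finset.ne_of_mem_erase hy).symm,
        Finset.sum_const, Finset.card_erase_of_mem (Finset.mem_univ x), Finset.card_univ,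
        smul_eq_mul, ← Nat.card_eq_fintype_card]
    obtain ⟨r, hr⟩ : ∃ r, Nat.card Ω = r + 1 := ⟨Nat.card Ω - 1, by omega⟩
    rw [hI, hr, Nat.add_sub_cancel, add_mul, one_mul] at h1
    omega
  -- inverting involutions
  have hpres : ∀ w : W, ∀ x ∈ F, (w.1 : G) • x ∈ F := by
    rintro ⟨⟨w, hw1, hw2⟩, hwd⟩ x hx
    show d • w • x = w • x
    have e : d * w = w * d⁻¹ := by
      rw [← show w * d * w⁻¹ = d⁻¹ from hwd, inv_eq_of_mul_eq_one_right hw2, ← mul_assoc,
        ← mul_assoc, hw2, one_mul]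
    rw [← mul_smul, e, mul_smul, inv_smul_eq_iff.2 (show d • x = x from hx).symm]
  have hfixF : ∀ w : W, ∃ x : F, (w.1 : G) • (x : Ω) = x := by
    intro w
    by_contra! hno
    have hσ : Function.Involutive (fun x : F => (⟨(w.1 : G) • (x : Ω), hpres w x x.2⟩ : F)) :=
      fun x => Subtype.ext (by
        show (w.1 : G) • (w.1 : G) • (x : Ω) = x
        rw [← mul_smul, w.1.2.2, one_smul])
    let σ : Equiv.Perm F := hσ.toPerm _
    have hsup : σ.support = Finset.univ := Finset.eq_univ_iff_forall.2 fun x => by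
      rw [Equiv.Perm.mem_support]
      exact fun h => hno x (congrArg Subtype.val h)
    have hσ2 : σ ^ 2 ^ 1 = 1 := Equiv.ext fun x => by
      rw [pow_one, pow_two, Equiv.Perm.mul_apply]; exact hσ x
    haveI : Fact (Nat.Prime 2) := ⟨Nat.prime_two⟩
    have h := Equiv.Perm.card_compl_support_modEq (p := 2) (n := 1) hσ2
    rw [hsup, Finset.compl_univ, Finset.card_empty, ← Nat.card_eq_fintype_card,
      Nat.card_coe_set_eq] at h
    rw [Nat.odd_iff] at hFodd
    unfold Nat.ModEq at h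
    omega
  choose p hp using hfixF
  have hWcard : Nat.card W = F.ncard * δ := by
    let e2 : (Σ w : W, {x : F // (w.1 : G) • (x : Ω) ≠ x}) ≃
        Σ q : {q : F × F // q.1 ≠ q.2}, {w : I // (w : G) • (q.1.1 : Ω) = q.1.2} :=
      { toFun := fun r => ⟨⟨(r.2.1, ⟨(r.1.1 : G) • (r.2.1 : Ω), hpres r.1 _ r.2.1.2⟩),
          fun e => r.2.2 (congrArg Subtype.val e).symm⟩, r.1.1, rfl⟩
        invFun := fun r => ⟨⟨r.2.1, by
            refine H.inverts (a := (r.1.1.1 : Ω)) (b := r.1.1.2) (fun e => r.1.2 (Subtype.ext e))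
              r.2.2 ?_ ⟨r.1.1.1.2, r.1.1.2.2⟩
            exact (congrArg ((r.2.1 : G) • ·) r.2.2.symm).trans
              (by rw [← mul_smul, r.2.1.2.2, one_smul])⟩,
          r.1.1.1, by rw [r.2.2]; exact fun e => r.1.2 (Subtype.ext e).symm⟩
        left_inv := fun r => rfl
        right_inv := fun r => by
          obtain ⟨⟨⟨x, y⟩, hxy⟩, w, hw⟩ := r
          exact Sigma.subtype_ext (Subtype.ext (Prod.ext rfl (Subtype.ext hw))) rfl }
    have c2 := Nat.card_congr e2
    have hm : ∀ w : W, Nat.card {x : F // (w.1 : G) • (x : Ω) ≠ x} = F.ncard - 1 := by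
      intro w
      have hp' : ∀ x : F, (w.1 : G) • (x : Ω) ≠ x ↔ x ≠ p w := fun x =>
        ⟨fun h e => h (e ▸ hp w), fun h e => h (Subtype.ext (huniq w.1 _ _ e (hp w)))⟩
      rw [Nat.card_congr (Equiv.subtypeEquivRight hp'), Nat.card_eq_fintype_card,
        Fintype.card_subtype_compl, Fintype.card_subtype_eq, ← Nat.card_eq_fintype_card,
        Nat.card_coe_set_eq]
    rw [Nat.card_sigma, Nat.card_sigma, Finset.sum_congr rfl fun w _ => hm w, Finset.sum_const,
      Finset.card_univ, smul_eq_mul, ← Nat.card_eq_fintype_card,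
      Finset.sum_congr rfl fun q _ => hswap _ _ (fun e => q.2 (Subtype.ext e)), Finset.sum_const,
      Finset.card_univ, smul_eq_mul, Fintype.card_subtype,
      show (Finset.univ.filter fun q : F × F => q.1 ≠ q.2) = (Finset.univ : Finset F).offDiag by
        ext; simp,
      Finset.offDiag_card, Finset.card_univ, ← Nat.card_eq_fintype_card (α := F),
      Nat.card_coe_set_eq] at c2
    obtain ⟨r, hr⟩ : ∃ r, F.ncard = r + 1 := ⟨F.ncard - 1, by omega⟩
    rw [hr, Nat.add_sub_cancel, show (r + 1) * (r + 1) - (r + 1) = (r + 1) * r by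
      rw [Nat.mul_add, mul_one, Nat.add_sub_cancel]] at c2
    exact Nat.eq_of_mul_eq_mul_right (show 0 < r by omega) (by rw [c2, hr]; ring)
  let V := Σ x : F, {w : I // (w : G) • (x : Ω) = x}
  let j : W → V := fun w => ⟨p w, w.1, hp w⟩
  have hj : Function.Injective j := fun w w' h => Subtype.ext (congrArg (fun v : V => v.2.1) h)
  have hV : Nat.card V = F.ncard * δ := by
    rw [Nat.card_sigma, Finset.sum_congr rfl fun (x : F) _ => hpoint (x : Ω), Finset.sum_const,
      Finset.card_univ, smul_eq_mul, ← Nat.card_eq_fintype_card, Nat.card_coe_set_eq]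
  obtain ⟨w, hw⟩ := ((Nat.bijective_iff_injective_and_card j).2 ⟨hj, hWcard.trans hV.symm⟩).2
    ⟨⟨a, ha⟩, ⟨e, he1, he2⟩, hea⟩
  have hwe : (w.1 : G) = e := congrArg (fun v : V => (v.2.1 : G)) hw
  rw [← hwe]
  exact w.2

theorem fix_three_one (H : Hyp G Ω 1) {a b c : Ω} (hab : a ≠ b)
    (hac : a ≠ c) (hbc : b ≠ c) {d : G} (ha : d • a = a) (hb : d • b = b) (hc : d • c = c) :
    d = 1 := by
  classical
  by_contra hd1
  let S := stabilizer G a
  let gens : Set G := {z | ∃ h ∈ S, h * d * h⁻¹ = z}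
  set A := Subgroup.closure gens with hA
  let C := Subgroup.centralizer ({d} : Set G)
  have hCodd : Odd (Nat.card C) := H.centralizer_odd (by omega) hab ⟨ha, hb⟩ hd1
  have hinvz : ∀ z ∈ gens, ∀ e : G, e ≠ 1 → e * e = 1 → e • a = a → e * z * e⁻¹ = z⁻¹ := by
    rintro _ ⟨h, hh, rfl⟩ e he1 he2 hea
    have hhi : h⁻¹ • a = a := inv_smul_eq_iff.2 (mem_stabilizer_iff.1 hh).symm
    refine H.inverted_of_fix rfl (a := a) (b := h • b) (c := h • c) ?_ ?_ ?_ ?_ ?_ ?_ ?_ he1 he2 hea
    · exact fun e' => hab (smul_left_cancel h ((mem_stabilizer_iff.1 hh).trans e'))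
    · exact fun e' => hac (smul_left_cancel h ((mem_stabilizer_iff.1 hh).trans e'))
    · exact fun e' => hbc (smul_left_cancel h e')
    · rw [mul_smul, mul_smul, hhi, ha, mem_stabilizer_iff.1 hh]
    · rw [mul_smul, mul_smul, inv_smul_smul, hb]
    · rw [mul_smul, mul_smul, inv_smul_smul, hc]
    · exact fun e' => hd1 (conj_eq_one_iff.1 e')
  -- an involution at `a`
  obtain ⟨e, he1, he2, hea⟩ : ∃ e : G, e ≠ 1 ∧ e * e = 1 ∧ e • a = a := by
    obtain ⟨w, hw1, hw2⟩ := H.exists_invol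
    obtain ⟨x, hx⟩ : ∃ x : Ω, w • x = x := by
      have h := H.fx_invol hw1 hw2
      obtain ⟨⟨x, hx⟩⟩ : Nonempty {x : Ω // w • x = x} :=
        (Nat.card_pos_iff.1 (by rw [show Nat.card _ = 1 from h]; exact one_pos)).1
      exact ⟨x, hx⟩
    obtain ⟨g, hg⟩ : ∃ g : G, g • x = a := by
      rcases eq_or_ne x a with rfl | hxa
      · exact ⟨1, one_smul G x⟩
      · obtain ⟨g, hg, -⟩ := H.two x a a x hxa hxa.symm
        exact ⟨g, hg⟩
    refine ⟨g * w * g⁻¹, fun e => hw1 (conj_eq_one_iff.1 e), ?_, ?_⟩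
    · rw [show g * w * g⁻¹ * (g * w * g⁻¹) = g * (w * w) * g⁻¹ by group, hw2]; group
    · rw [← hg, mul_smul, mul_smul, inv_smul_smul, hx]
  have hdgen : d ∈ gens := ⟨1, one_mem S, by group⟩
  have hed : e * d * e⁻¹ = d⁻¹ := hinvz d hdgen e he1 he2 hea
  have hei : e⁻¹ = e := inv_eq_of_mul_eq_one_right he2
  -- `d * d` is a product of two involutions at `a`
  have hdcomm : ∀ z ∈ gens, z * d = d * z := by
    intro z hz
    set e' := d⁻¹ * e * d with he'
    have e'1 : e' ≠ 1 := fun h => he1 (by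
      calc e = d * e' * d⁻¹ := by rw [he']; group
        _ = 1 := by rw [h]; group)
    have e'2 : e' * e' = 1 := by
      rw [he', show d⁻¹ * e * d * (d⁻¹ * e * d) = d⁻¹ * (e * e) * d by group, he2]; group
    have e'a : e' • a = a := by
      rw [he', mul_smul, mul_smul, ha, hea, inv_smul_eq_iff, ha]
    have hdd : e * e' = d * d := by
      have hed' : e * d⁻¹ * e⁻¹ = d := by
        rw [show e * d⁻¹ * e⁻¹ = (e * d * e⁻¹)⁻¹ by group, hed, inv_inv]
      rw [he', show e * (d⁻¹ * e * d) = (e * d⁻¹ * e⁻¹) * (e * e) * d by group, hed', he2, mul_one]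
    have h2 : z * (d * d) = d * d * z := by
      have a1 := hinvz z hz e he1 he2 hea
      have a2 := hinvz z hz e' e'1 e'2 e'a
      have hzi : e * z⁻¹ * e⁻¹ = z := by
        rw [show e * z⁻¹ * e⁻¹ = (e * z * e⁻¹)⁻¹ by group, a1, inv_inv]
      have : (e * e') * z * (e * e')⁻¹ = z := by
        rw [show (e * e') * z * (e * e')⁻¹ = e * (e' * z * e'⁻¹) * e⁻¹ by group, a2, hzi]
      rw [← hdd]
      exact eq_mul_inv_iff_mul_eq.1 this.symm
    have hodd : Odd (orderOf d) :=
      (H.pst_odd (by omega) hab).of_dvd_nat ((pst G a b).orderOf_dvd_natCard ⟨ha, hb⟩)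
    obtain ⟨r, hr⟩ := hodd
    have hd' : d = (d * d) ^ (r + 1) := by
      rw [← pow_two, ← pow_mul, show 2 * (r + 1) = orderOf d + 1 by omega, pow_succ,
        pow_orderOf_eq_one, one_mul]
    rw [hd']
    exact ((show Commute z (d * d) from h2).pow_right _).eq
  have hAC : A ≤ C := (Subgroup.closure_le _).2 fun z hz =>
    Subgroup.mem_centralizer_singleton_iff.2 (hdcomm z hz)
  have hgcomm : ∀ z ∈ gens, ∀ z' ∈ gens, z * z' = z' * z := by
    intro z hz z' hz'
    obtain ⟨h, hh, rfl⟩ := hz'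
    obtain ⟨k, hk, rfl⟩ := hz
    have := hdcomm (h⁻¹ * (k * d * k⁻¹) * h) ⟨h⁻¹ * k, mul_mem (inv_mem hh) hk, by group⟩
    calc k * d * k⁻¹ * (h * d * h⁻¹) = h * ((h⁻¹ * (k * d * k⁻¹) * h) * d) * h⁻¹ := by group
      _ = h * d * h⁻¹ * (k * d * k⁻¹) := by rw [this]; group
  have hAA : A ≤ Subgroup.centralizer (A : Set G) := by
    refine (Subgroup.closure_le _).2 fun z hz => ?_
    have : A ≤ Subgroup.centralizer ({z} : Set G) := (Subgroup.closure_le _).2 fun z' hz' =>
      Subgroup.mem_centralizer_singleton_iff.2 (hgcomm z' hz' z hz)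
    exact Subgroup.mem_centralizer_iff.2 fun y hy =>
      Subgroup.mem_centralizer_singleton_iff.1 (this hy)
  have hAfix : ∀ y ∈ A, y • a = a := by
    intro y hy
    refine mem_stabilizer_iff.1 ((Subgroup.closure_le (K := S)).2 ?_ hy)
    rintro _ ⟨h, hh, rfl⟩
    exact mul_mem (mul_mem hh (mem_stabilizer_iff.2 ha)) (inv_mem hh)
  have hAinv : ∀ y ∈ A, e * y * e⁻¹ = y⁻¹ := by
    intro y hy
    refine Subgroup.closure_induction (p := fun y _ => e * y * e⁻¹ = y⁻¹) (fun z hz => hinvz z hz e he1 he2 hea)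
      (by group) ?_ ?_ hy
    · intro y z hy hz h1 h2
      rw [show e * (y * z) * e⁻¹ = (e * y * e⁻¹) * (e * z * e⁻¹) by group, h1, h2, ← mul_inv_rev,
        Subgroup.mem_centralizer_iff.1 (hAA hy) z hz]
    · intro y hy h
      rw [show e * y⁻¹ * e⁻¹ = (e * y * e⁻¹)⁻¹ by group, h]
  have hAconj : ∀ h ∈ S, ∀ y ∈ A, h * y * h⁻¹ ∈ A := by
    intro h hh y hy
    refine Subgroup.closure_induction (p := fun y _ => h * y * h⁻¹ ∈ A) ?_ (by simp) ?_ ?_ hy
    · rintro _ ⟨k, hk, rfl⟩
      exact Subgroup.subset_closure ⟨h * k, mul_mem hh hk, by group⟩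
    · intro y z _ _ h1 h2
      rw [show h * (y * z) * h⁻¹ = (h * y * h⁻¹) * (h * z * h⁻¹) by group]
      exact mul_mem h1 h2
    · intro y _ h1
      rw [show h * y⁻¹ * h⁻¹ = (h * y * h⁻¹)⁻¹ by group]
      exact inv_mem h1
  -- a layer of `C` acting as an abelian group
  haveI : Group.IsSolvable C := CfsgLib.DGroup.isSolvable_of_odd_card hCodd
  let Kp : C → Prop := fun m => ∀ x : Ω, d • x = x → (m : G) • x = x
  have hex : ∃ k, ∀ m ∈ derivedSeries C k, Kp m := by
    obtain ⟨k, hk⟩ := Group.IsSolvable.solvable (G := C)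
    refine ⟨k, fun m hm x _ => ?_⟩
    rw [hk, Subgroup.mem_bot] at hm
    rw [hm, OneMemClass.coe_one, one_smul]
  have h3 : 2 < {x : Ω | d • x = x}.ncard := (Set.two_lt_ncard (Set.toFinite _)).2 ⟨a, ha, b, hb, c, hc, hab, hac, hbc⟩
  have hk0 : Nat.find hex ≠ 0 := by
    intro h0
    have h := Nat.find_spec hex
    rw [h0] at h
    obtain ⟨m, hm, hmb⟩ := H.centralizer_trans h3 ha hb
    exact hab ((h ⟨m, hm⟩ (by rw [derivedSeries_zero]; exact Subgroup.mem_top _) a ha).symm.trans hmb)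
  obtain ⟨j, hj⟩ : ∃ j, Nat.find hex = j + 1 := ⟨Nat.find hex - 1, by omega⟩
  set N := derivedSeries C j with hN
  have hlow : ¬ ∀ m ∈ N, Kp m := Nat.find_min hex (by omega)
  have hder : ∀ m ∈ derivedSeries C (j + 1), Kp m := hj ▸ Nat.find_spec hex
  have hCfix : ∀ (m : C) (x : Ω), d • x = x → d • (m : G) • x = (m : G) • x := fun m x hx => by
    rw [← mul_smul, ← Subgroup.mem_centralizer_singleton_iff.1 m.2, mul_smul, hx]
  obtain ⟨n₁, hn₁, hmove⟩ : ∃ n₁ ∈ N, ((n₁ : C) : G) • a ≠ a := by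
    by_contra! hall
    refine hlow fun m hm x hx => ?_
    obtain ⟨u, hu, rfl⟩ := H.centralizer_trans h3 ha hx
    have h := hall _ ((inferInstance : N.Normal).conj_mem m hm (⟨u, hu⟩⁻¹ : C))
    simp only [Subgroup.coe_mul, Subgroup.coe_inv, inv_inv, mul_smul] at h
    exact inv_smul_eq_iff.1 h
  -- conjugation by `e`
  have heC : ∀ m : C, e * (m : G) * e⁻¹ ∈ C := fun m => by
    refine Subgroup.mem_centralizer_singleton_iff.2 ?_
    have hm := Subgroup.mem_centralizer_singleton_iff.1 m.2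
    have hed' : d = e * d⁻¹ * e⁻¹ := by
      rw [show e * d⁻¹ * e⁻¹ = (e * d * e⁻¹)⁻¹ by group, hed, inv_inv]
    have hmi : (m : G) * d⁻¹ = d⁻¹ * m := ((show Commute (m : G) d from hm).inv_right).eq
    calc e * (m : G) * e⁻¹ * d = e * m * e⁻¹ * (e * d⁻¹ * e⁻¹) := by rw [← hed']
      _ = e * (m * d⁻¹) * e⁻¹ := by group
      _ = e * d⁻¹ * e⁻¹ * (e * m * e⁻¹) := by rw [hmi]; group
      _ = d * (e * m * e⁻¹) := by rw [← hed']
  let θ : C ≃* C :=
    { toFun := fun m => ⟨e * m * e⁻¹, heC m⟩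
      invFun := fun m => ⟨e * m * e⁻¹, heC m⟩
      left_inv := fun m => Subtype.ext (by
        show e * (e * (m : G) * e⁻¹) * e⁻¹ = m
        rw [show e * (e * (m : G) * e⁻¹) * e⁻¹ = e * e * m * (e * e)⁻¹ by group, he2]; group)
      right_inv := fun m => Subtype.ext (by
        show e * (e * (m : G) * e⁻¹) * e⁻¹ = m
        rw [show e * (e * (m : G) * e⁻¹) * e⁻¹ = e * e * m * (e * e)⁻¹ by group, he2]; group)
      map_mul' := fun m n => Subtype.ext (by simp [mul_assoc]) }
  haveI : N.Characteristic := derivedSeries_characteristic C j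
  have hθN : ∀ m ∈ N, θ m ∈ N := fun m hm => by
    have h := (inferInstance : N.Characteristic).fixed θ
    rw [← h] at hm
    exact hm
  have hcomm : ∀ m ∈ N, ∀ n ∈ N, ∀ x : Ω, d • x = x →
      (m : G) • (n : G) • x = (n : G) • (m : G) • x := by
    intro m hm n hn x hx
    have h := hder ⁅m, n⁆ (by rw [derivedSeries_succ]; exact Subgroup.commutator_mem_commutator hm hn)
      (((n * m : C) : G) • x) (hCfix _ x hx)
    rw [← mul_smul, ← Subgroup.coe_mul, commutatorElement_def,
      show m * n * m⁻¹ * n⁻¹ * (n * m) = m * n by group, Subgroup.coe_mul, mul_smul,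
      Subgroup.coe_mul, mul_smul] at h
    exact h
  have hinvN : ∀ m ∈ N, e • (m : G) • a = ((m⁻¹ : C) : G) • a := by
    intro m hm
    have hm2 := hθN m hm
    have hθ : ((θ m : C) : G) = e * m * e⁻¹ := rfl
    have hc' := hcomm m hm (θ m) hm2 a ha
    set x := (m : G) • ((θ m : C) : G) • a with hx
    have hex' : e • x = x := by
      calc e • x = ((θ m : C) : G) • (m : G) • e • a := by
            rw [hx, ← mul_smul, ← mul_smul, ← mul_smul, ← mul_smul]
            congr 1
            rw [hθ, hei]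
            simp only [mul_assoc]
        _ = x := by rw [hea, ← hc']
    have hxa : x = a := by
      obtain ⟨z, hz⟩ := Set.ncard_eq_one.1 ((Nat.card_coe_set_eq {y : Ω | e • y = y}).symm.trans
        (H.fx_invol he1 he2))
      exact ((Set.ext_iff.1 hz x).1 hex').trans ((Set.ext_iff.1 hz a).1 hea).symm
    have h4 : ((θ m : C) : G) • a = ((m⁻¹ : C) : G) • a := by
      rw [Subgroup.coe_inv, eq_inv_smul_iff]; exact hxa
    rw [← h4, hθ, mul_smul, mul_smul, inv_smul_eq_iff.2 hea.symm]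
  set q := (n₁ : G) • a with hq
  have hyq : ∀ y ∈ A, y • q = q := by
    intro y hy
    let y' : C := ⟨y, hAC hy⟩
    have hn₂ : y' * n₁ * y'⁻¹ ∈ N := (inferInstance : N.Normal).conj_mem n₁ hn₁ y'
    have hq2 : ((y' * n₁ * y'⁻¹ : C) : G) • a = y • q := by
      simp only [Subgroup.coe_mul, Subgroup.coe_inv, mul_smul, hq, y']
      rw [inv_smul_eq_iff.2 (hAfix y hy).symm]
    have hq3 : (((y' * n₁ * y'⁻¹)⁻¹ : C) : G) • a = y • ((n₁⁻¹ : C) : G) • a := by
      simp only [mul_inv_rev, inv_inv, Subgroup.coe_mul, Subgroup.coe_inv, mul_smul, y']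
      rw [inv_smul_eq_iff.2 (hAfix y hy).symm]
    have h1 : (e * y * e⁻¹) • q = y • q := by
      have hn2i := inv_mem hn₂
      calc (e * y * e⁻¹) • q = e • y • e • q := by rw [hei, mul_smul, mul_smul]
        _ = e • (((y' * n₁ * y'⁻¹)⁻¹ : C) : G) • a := by rw [hq, hinvN n₁ hn₁, hq3]
        _ = y • q := by rw [hinvN _ hn2i, inv_inv, hq2]
    rw [hAinv y hy, inv_smul_eq_iff] at h1
    have hyo : Odd (orderOf y) := hCodd.of_dvd_nat (C.orderOf_dvd_natCard (hAC hy))
    obtain ⟨r, hr⟩ := hyo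
    have hmem : y * y ∈ stabilizer G q := by
      show (y * y) • q = q
      rw [mul_smul, ← h1]
    have hy' : y = (y * y) ^ (r + 1) := by
      rw [← pow_two, ← pow_mul, show 2 * (r + 1) = orderOf y + 1 by omega, pow_succ,
        pow_orderOf_eq_one, one_mul]
    rw [hy']
    exact pow_mem hmem (r + 1)
  refine hd1 (H.faith d fun z => ?_)
  rcases eq_or_ne z a with rfl | hza
  · exact ha
  obtain ⟨g, hga, hgq⟩ := H.two a q a z hmove.symm hza.symm
  have hgi : g⁻¹ ∈ S := inv_mem (mem_stabilizer_iff.2 hga)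
  have h := hyq _ (hAconj g⁻¹ hgi d (Subgroup.subset_closure hdgen))
  rw [inv_inv, mul_smul, mul_smul, hgq, inv_smul_eq_iff, hgq] at h
  exact h

/-- For fixity at most two only the identity fixes three points. -/
theorem fix_three {i : ℕ} (H : Hyp G Ω i) (hi : i ≤ 2) {a b c : Ω} (hab : a ≠ b)
    (hac : a ≠ c) (hbc : b ≠ c) {d : G} (ha : d • a = a) (hb : d • b = b) (hc : d • c = c) :
    d = 1 := by
  classical
  interval_cases i
  · by_contra hd1
    have h3 : 2 < {x : Ω | d • x = x}.ncard :=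
      (Set.two_lt_ncard (Set.toFinite _)).2 ⟨a, ha, b, hb, c, hc, hab, hac, hbc⟩
    have hCodd := H.centralizer_odd (by omega) hab ⟨ha, hb⟩ hd1
    obtain ⟨u, hua, hub⟩ := exists_swap H.two hab
    have hu2 := H.swap a b hab u hua hub
    have hu1 : u ≠ 1 := fun e => hab (by rw [← hua, e, one_smul])
    let F : Set Ω := {x | d • x = x}
    let C := Subgroup.centralizer ({d} : Set G)
    have horb : MulAction.orbit C a = F := by
      refine Set.ext fun y => ⟨?_, fun hy => ?_⟩
      · rintro ⟨m, rfl⟩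
        show d • (m : G) • a = (m : G) • a
        rw [← mul_smul, ← Subgroup.mem_centralizer_singleton_iff.1 m.2, mul_smul, ha]
      · obtain ⟨m, hm, hma⟩ := H.centralizer_trans h3 ha hy
        exact ⟨⟨m, hm⟩, hma⟩
    have hFodd : Odd F.ncard := by
      have hdvd : F.ncard ∣ Nat.card C := by
        rw [← horb, ← Nat.card_coe_set_eq,
          Nat.card_congr (MulAction.orbitEquivQuotientStabilizer C a)]
        exact Subgroup.card_quotient_dvd_card _
      exact hCodd.of_dvd_nat hdvd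
    haveI : Fintype F := Fintype.ofFinite F
    have hpres : ∀ x ∈ F, u • x ∈ F := fun x hx => by
      show d • u • x = u • x
      have e := H.inverts hab hua hub ⟨ha, hb⟩
      have e' : d * u = u * d⁻¹ := by
        rw [← e, inv_eq_of_mul_eq_one_right hu2, ← mul_assoc, ← mul_assoc, hu2, one_mul]
      rw [← mul_smul, e', mul_smul, inv_smul_eq_iff.2 (show d • x = x from hx).symm]
    have hσ : Function.Involutive (fun x : F => (⟨u • (x : Ω), hpres x x.2⟩ : F)) :=
      fun x => Subtype.ext (by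
        show u • u • (x : Ω) = x
        rw [← mul_smul, hu2, one_smul])
    let σ : Equiv.Perm F := hσ.toPerm _
    have hsup : σ.support = Finset.univ := Finset.eq_univ_iff_forall.2 fun x => by
      rw [Equiv.Perm.mem_support]
      intro h
      have h0 := H.fx_invol hu1 hu2
      rw [fx, Nat.card_eq_zero] at h0
      rcases h0 with h0 | h0
      · exact h0.false ⟨x, congrArg Subtype.val h⟩
      · exact not_finite {x : Ω // u • x = x}
    have hσ2 : σ ^ 2 ^ 1 = 1 := Equiv.ext fun x => by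
      rw [pow_one, pow_two, Equiv.Perm.mul_apply]; exact hσ x
    haveI : Fact (Nat.Prime 2) := ⟨Nat.prime_two⟩
    have h := Equiv.Perm.card_compl_support_modEq (p := 2) (n := 1) hσ2
    rw [hsup, Finset.compl_univ, Finset.card_empty, ← Nat.card_eq_fintype_card,
      Nat.card_coe_set_eq] at h
    rw [Nat.odd_iff] at hFodd
    unfold Nat.ModEq at h
    omega
  · exact H.fix_three_one hab hac hbc ha hb hc
  · by_contra hd1
    obtain ⟨w, hw1, hw2, hwa, hwb⟩ : ∃ w : G, w ≠ 1 ∧ w * w = 1 ∧ w • a = a ∧ w • b = b := by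
      obtain ⟨w, hw1, hw2⟩ := H.exists_invol
      have h2 : {x : Ω | w • x = x}.ncard = 2 := by
        rw [← Nat.card_coe_set_eq]; exact H.fx_invol hw1 hw2
      obtain ⟨x, y, hxy, he⟩ := Set.ncard_eq_two.1 h2
      obtain ⟨g, hgx, hgy⟩ := H.two x y a b hxy hab
      have hx : w • x = x := (Set.ext_iff.1 he x).2 (Or.inl rfl)
      have hy : w • y = y := (Set.ext_iff.1 he y).2 (Or.inr rfl)
      refine ⟨g * w * g⁻¹, fun e => hw1 (conj_eq_one_iff.1 e), ?_, ?_, ?_⟩
      · rw [show g * w * g⁻¹ * (g * w * g⁻¹) = g * (w * w) * g⁻¹ by group, hw2]; group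
      · rw [← hgx, mul_smul, mul_smul, inv_smul_smul, hx]
      · rw [← hgy, mul_smul, mul_smul, inv_smul_smul, hy]
    have h := H.const w hw1 hw2 d hd1 (H.comm hab ⟨ha, hb⟩ ⟨hwa, hwb⟩)
    have : 2 < {x : Ω | d • x = x}.ncard :=
      (Set.two_lt_ncard (Set.toFinite _)).2 ⟨a, ha, b, hb, c, hc, hab, hac, hbc⟩
    rw [← Nat.card_coe_set_eq] at this
    change 2 < fx Ω d at this
    omega

end Hyp

end CfsgLib.Perm.ConstFix
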