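import Cfsg.Agent.Lib.Perm.ConstFix.Small
import Cfsg.Agent.Lib.Perm.ZassG.Half
import Cfsg.Agent.Lib.Perm.ZassG.PSL
import Cfsg.Agent.Lib.Recog.CIT.SEKnown
import Cfsg.Agent.Lib.Recog.SzIso.Suzuki
import Cfsg.Agent.S0340
import Cfsg.Agent.S0346

/-!
Constant fixity at most two: Zassenhaus groups, hence `PSL₂` or a Suzuki group.
-/

set_option autoImplicit false
set_option linter.unusedSectionVars false
set_option linter.style.haveILetI false

open MulAction

namespace CfsgLib.Perm.ConstFix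

variable {G Ω : Type*} [Group G] [MulAction G Ω] [Finite G] [Finite Ω]

/-- In odd degree the group is `PSL₂` or a Suzuki group. -/
theorem Hyp.odd_case (H : Hyp G Ω 1) (hZ : Cfsg.IsZassenhausGroup G Ω) {a b : Ω} (hab : a ≠ b) :
    (∃ (F : Type) (_ : Field F) (_ : Fintype F),
      Nonempty (G ≃* Matrix.ProjectiveSpecialLinearGroup (Fin 2) F)) ∨
    Cfsg.Lie.IsoSuzuki G := by
  classical
  haveI := Fintype.ofFinite Ω
  haveI : Fact (Nat.Prime 2) := ⟨Nat.prime_two⟩
  obtain ⟨w, hw1, hw2⟩ := H.exists_invol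
  have hodd : Odd (Nat.card Ω) := by
    rw [← Nat.not_even_iff_odd, fx_parity hw2, H.fx_invol hw1 hw2]
    exact Nat.not_even_one
  haveI : IsSimpleGroup G := CfsgLib.Perm.ZassG.odd_degree_simple hZ hab hodd
  rcases Cfsg.Agent.S0340.result hZ with hp | hsz
  · exact Or.inl hp
  right
  obtain ⟨p, k, hp, hk, hpk⟩ := (Cfsg.Agent.S0346.result hZ : IsPrimePow (Fintype.card Ω - 1))
  have hp' : p.Prime := hp.nat_prime
  have hn2 : 2 ≤ Nat.card Ω := by
    haveI : Nontrivial Ω := ⟨a, b, hab⟩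
    exact Finite.one_lt_card
  have hp2 : p = 2 := by
    rcases hp'.eq_two_or_odd' with h | h
    · exact h
    · exfalso
      have := h.pow (n := k)
      rw [hpk, ← Nat.card_eq_fintype_card] at this
      rw [Nat.odd_iff] at this hodd
      omega
  subst hp2
  have hcit : CfsgLib.Recog.CIT.CIT G := by
    intro t ht
    have h := H.cent t (fun e => by rw [e, orderOf_one] at ht; omega)
      (by rw [← pow_two, ← ht, pow_orderOf_eq_one])
    refine IsPGroup.of_card (n := k) ?_
    rw [hpk, ← Nat.card_eq_fintype_card]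
    omega
  have hnab : ∃ x y : G, x * y ≠ y * x := by
    by_contra! hcomm
    haveI : IsPretransitive G Ω := CfsgLib.Perm.ZassG.isPretransitive hZ hab
    obtain ⟨g, hg1, c, e, hce, hc, he⟩ := hZ.2.2.2.1
    refine hg1 (H.faith g fun x => ?_)
    obtain ⟨m, rfl⟩ := exists_smul_eq G c x
    rw [← mul_smul, hcomm g m, mul_smul, hc]
  have hse : Cfsg.IsStronglyEmbedded (stabilizer G a) := by
    haveI : IsPretransitive G Ω := CfsgLib.Perm.ZassG.isPretransitive hZ hab
    refine ⟨fun htop => ?_, ?_, fun g hg => ?_⟩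
    · obtain ⟨g, hg⟩ := exists_smul_eq G a b
      have : g • a = a := mem_stabilizer_iff.1 (htop ▸ Subgroup.mem_top g)
      exact hab (this.symm.trans hg)
    · have h1 := H.fx_invol hw1 hw2
      obtain ⟨⟨x, hx⟩⟩ : Nonempty {x : Ω // w • x = x} :=
        (Nat.card_pos_iff.1 (by rw [show Nat.card _ = 1 from h1]; exact one_pos)).1
      obtain ⟨g, hg⟩ := exists_smul_eq G x a
      rw [even_iff_two_dvd]
      have hm : g * w * g⁻¹ ∈ stabilizer G a := by
        rw [mem_stabilizer_iff, ← hg, mul_smul, mul_smul, inv_smul_smul, hx]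
      have ho2 : g * w * g⁻¹ * (g * w * g⁻¹) = 1 := by
        rw [show g * w * g⁻¹ * (g * w * g⁻¹) = g * (w * w) * g⁻¹ by group, hw2]
        group
      have ho : orderOf (g * w * g⁻¹) = 2 :=
        orderOf_eq_prime (by rw [pow_two]; exact ho2) (fun e => hw1 (conj_eq_one_iff.1 e))
      rw [← ho]
      exact Subgroup.orderOf_dvd_natCard _ hm
    · have hga : a ≠ g • a := fun e => hg (mem_stabilizer_iff.2 e.symm)
      refine (H.pst_odd (by omega) hga).of_dvd_nat (Subgroup.card_dvd_of_le ?_)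
      rintro x ⟨hx, y, hy, rfl⟩
      refine ⟨hx, ?_⟩
      show (g * y * g⁻¹) • g • a = g • a
      rw [mul_smul, mul_smul, inv_smul_smul, mem_stabilizer_iff.1 hy]
  obtain ⟨⟨S, D, q, hd⟩, -⟩ := CfsgLib.Recog.CIT.hasSE_of_se hcit hnab _ hse
  exact CfsgLib.Recog.SzIso.isoSuzuki_of_isSuzuki hd hsz

/-- The conclusion for fixity at most two. -/
theorem Hyp.small {i : ℕ} (H : Hyp G Ω i) (hi : i ≤ 2) :
    (∃ (F : Type) (_ : Field F) (_ : Fintype F),
      Nonempty (G ≃* Matrix.ProjectiveSpecialLinearGroup (Fin 2) F)) ∨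
    Cfsg.Lie.IsoSuzuki G ∨ RN G Ω := by
  classical
  haveI := Fintype.ofFinite Ω
  haveI := Fintype.ofFinite G
  haveI : Fact (Nat.Prime 2) := ⟨Nat.prime_two⟩
  obtain ⟨w, hw1, hw2⟩ := H.exists_invol
  haveI : FaithfulSMul G Ω := ⟨fun {g g'} hgg =>
    (inv_mul_eq_one.1 (H.faith (g'⁻¹ * g) fun x => by
      rw [mul_smul, hgg x, inv_smul_smul])).symm⟩
  obtain ⟨x₀, hx₀⟩ := moved_nonempty (Ω := Ω) hw1
  haveI : Nontrivial Ω := ⟨w • x₀, x₀, hx₀⟩
  by_cases hRN : RN G Ω
  · exact Or.inr (Or.inr hRN)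
  have hex : ∃ g : G, g ≠ 1 ∧ ∃ a b : Ω, a ≠ b ∧ g • a = a ∧ g • b = b := by
    by_contra! h
    exact hRN (H.rn_of_sharp Finite.one_lt_card fun g a b hab ha hb => by_contra fun hg =>
      h g hg a b hab ha hb)
  have h2 : IsMultiplyPretransitive G Ω 2 := is_two_pretransitive_iff.2 fun hab hcd =>
    H.two _ _ _ _ hab hcd
  have hZ : Cfsg.IsZassenhausGroup G Ω := by
    refine ⟨inferInstance, h2, fun g a b c hab hbc hac ha hb hc => H.fix_three hi hab hac hbc ha hb hc,
      hex, fun N hN htr => ?_⟩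
    by_contra! hreg
    refine hRN ⟨N, hN, fun x y => ?_, fun x r hr hrx => ?_⟩
    · obtain ⟨r, hr⟩ := htr.exists_smul_eq x y
      exact ⟨r, r.2, hr⟩
    · have hm : (⟨r, hr⟩ : N) ∈ stabilizer N x := hrx
      rw [hreg x, Subgroup.mem_bot] at hm
      exact congrArg Subtype.val hm
  obtain ⟨g, -, a, b, hab, -⟩ := hex
  rcases eq_or_ne i 1 with rfl | hi1
  · rcases H.odd_case hZ hab with h | h
    · exact Or.inl h
    · exact Or.inr (Or.inl h)
  left
  obtain ⟨F, hF⟩ := CfsgLib.Perm.ZassG.exists_kernel hZ hab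
  have hn := hF.card_add_one hab
  set δ := Nat.card (CfsgLib.Perm.ZassG.pairStab G a b) with hδ
  have hdvd : δ ∣ Nat.card F - 1 := hF.card_pairStab_dvd hZ hab
  have hF1 : 1 < Nat.card F := (Subgroup.one_lt_card_iff_ne_bot F).2 (hF.ne_bot hZ hab)
  suffices hcard : Nat.card F = 2 * δ + 1 by
    obtain ⟨K, hK, hK', -, -, hiso⟩ := CfsgLib.Perm.ZassG.exists_psl hZ hab hF hcard
    exact ⟨K, hK, hK', hiso⟩
  have heven : Even (Nat.card Ω) := by
    rw [fx_parity hw2, H.fx_invol hw1 hw2]
    interval_cases i <;> simp_all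
  rw [Nat.even_iff] at heven
  obtain rfl | rfl : i = 0 ∨ i = 2 := by omega
  · have hδodd : Odd δ := H.pst_odd (by omega) hab
    rcases CfsgLib.Perm.ZassG.feit (Nat.card G) G rfl hZ hab hδodd F hF with hle | ⟨h2', -, -⟩
    · obtain ⟨r, hr⟩ := hdvd
      have hrev : Even r := by
        rcases Nat.even_or_odd r with h | h
        · exact h
        · exfalso
          have := hδodd.mul h
          rw [← hr, Nat.odd_iff] at this
          omega
      rcases Nat.lt_or_ge r 3 with hr3 | hr3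
      · obtain ⟨s, hs⟩ := hrev
        have hs1 : s = 1 := by
          rcases s with _ | _ | s
          · rw [hs, add_zero, mul_zero] at hr; omega
          · rfl
          · omega
        rw [hs, hs1] at hr
        omega
      · have := Nat.mul_le_mul_left δ hr3
        have := hδodd.pos
        omega
    · obtain ⟨k, hk⟩ := IsPGroup.iff_card.1 h2'
      have : k ≠ 0 := by rintro rfl; rw [pow_zero] at hk; omega
      have : 2 ∣ Nat.card F := hk ▸ dvd_pow_self 2 this
      omega
  · -- an involution fixing `a` and `b`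
    obtain ⟨z, hz1, hz2, hza, hzb⟩ : ∃ z : G, z ≠ 1 ∧ z * z = 1 ∧ z • a = a ∧ z • b = b := by
      have h' : {x : Ω | w • x = x}.ncard = 2 := by
        rw [← Nat.card_coe_set_eq]; exact H.fx_invol hw1 hw2
      obtain ⟨x, y, hxy, he⟩ := Set.ncard_eq_two.1 h'
      obtain ⟨h, hhx, hhy⟩ := H.two x y a b hxy hab
      have hx : w • x = x := (Set.ext_iff.1 he x).2 (Or.inl rfl)
      have hy : w • y = y := (Set.ext_iff.1 he y).2 (Or.inr rfl)
      refine ⟨h * w * h⁻¹, fun e => hw1 (conj_eq_one_iff.1 e), ?_, ?_, ?_⟩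
      · rw [show h * w * h⁻¹ * (h * w * h⁻¹) = h * (w * w) * h⁻¹ by group, hw2]; group
      · rw [← hhx, mul_smul, mul_smul, inv_smul_smul, hx]
      · rw [← hhy, mul_smul, mul_smul, inv_smul_smul, hy]
    have he : 2 ∣ δ :=
      orderOf_eq_prime (by rw [pow_two]; exact hz2) hz1 ▸ Subgroup.orderOf_dvd_natCard _
        (show z ∈ CfsgLib.Perm.ZassG.pairStab G a b from ⟨hza, hzb⟩)
    have hle := (CfsgLib.Perm.ZassG.even_bound hZ hab he).1
    rw [← hδ] at hle
    obtain ⟨u, hua, hub⟩ := exists_swap H.two hab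
    let C := Subgroup.centralizer ({z} : Set G)
    have hmemD : ∀ d ∈ pst G a b, d ∈ C := fun d hd =>
      Subgroup.mem_centralizer_singleton_iff.2 (H.comm hab hd ⟨hza, hzb⟩)
    have huC : u ∈ C := by
      refine Subgroup.mem_centralizer_singleton_iff.2 ?_
      have e := H.inverts hab hua hub (⟨hza, hzb⟩ : z ∈ pst G a b)
      rw [inv_eq_of_mul_eq_one_right hz2] at e
      exact mul_inv_eq_iff_eq_mul.1 e
    let f : (pst G a b) ⊕ (pst G a b) → C :=
      Sum.elim (fun d => ⟨d, hmemD d d.2⟩) (fun d => ⟨u * d, mul_mem huC (hmemD d d.2)⟩)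
    have hf : Function.Injective f := by
      rintro (d | d) (d' | d') h <;> have h' := congrArg Subtype.val h <;>
        simp only [f, Sum.elim_inl, Sum.elim_inr] at h'
      · rw [Subtype.ext h']
      · exfalso
        refine hab ?_
        have := congrArg (· • a) h'
        simp only [mul_smul, mem_stabilizer_iff.1 d.2.1, mem_stabilizer_iff.1 d'.2.1, hua] at this
        exact this
      · exfalso
        refine hab ?_
        have := congrArg (· • a) h'
        simp only [mul_smul, mem_stabilizer_iff.1 d.2.1, mem_stabilizer_iff.1 d'.2.1, hua] at this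
        exact this.symm
      · rw [Subtype.ext (mul_left_cancel h')]
    have h4 := Nat.card_le_card_of_injective f hf
    rw [Nat.card_sum] at h4
    have h5 := H.cent z hz1 hz2
    change Nat.card C + 2 = _ at h5
    change δ + δ ≤ _ at h4
    omega

end CfsgLib.Perm.ConstFix
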